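import Cfsg.Agent.Lib.CyclicSylowInter.Outer.Fixed
import Cfsg.Agent.Lib.Coprime.PGroup

/-!
# No outer involution

Counting the fixed points of the outer involution on the Sylow 2-subgroups of the simple normal
subgroup leaves only the unitary case, which the element centralising the involutions excludes.
-/

set_option autoImplicit false
set_option linter.style.haveILetI false
set_option linter.unusedSectionVars false

namespace Cfsg.Agent.CyclicSylowInter

open Subgroup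
open scoped Pointwise commutatorElement
open Cfsg.Agent.ZStar.CyclicIntersections

universe u

/-- The arithmetic of the count. -/
theorem count_arith {n i j k m : ℕ} (hn : 2 ≤ n) (hnj : n ≤ j) (hjk : j + k = n * i) (hi : i ≤ 3)
    (hk : 1 ≤ k) (he : 2 ^ k = (2 ^ j + 1) * m + 1) (hm : m ≤ 2 ^ n - 1) : j = n ∧ i = 3 := by
  have hk2 : 2 * j ≤ k := by
    by_contra h
    have hm0 : m ≠ 0 := by
      rintro rfl
      have : 2 ^ 1 ≤ 2 ^ k := Nat.pow_le_pow_right two_pos hk
      omega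
    have hjk' : j < k := by
      by_contra h'
      have h1 : 2 ^ k ≤ 2 ^ j := Nat.pow_le_pow_right two_pos (by omega)
      have h2 : 2 ^ j + 1 ≤ (2 ^ j + 1) * m := Nat.le_mul_of_pos_right _ (Nat.pos_of_ne_zero hm0)
      omega
    obtain ⟨r, rfl⟩ : ∃ r, k = j + r := ⟨k - j, by omega⟩
    have hdvd : 2 ^ j + 1 ∣ 2 ^ r + 1 := by
      refine (Nat.dvd_add_right (Dvd.intro m rfl)).1 ⟨2 ^ r, ?_⟩
      rw [add_mul (2 ^ j) 1 (2 ^ r), one_mul, ← pow_add, he]
      ring
    have h1 := Nat.le_of_dvd (Nat.succ_pos _) hdvd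
    have h2 : 2 ^ r < 2 ^ j := Nat.pow_lt_pow_right one_lt_two (by omega)
    omega
  have hkn : k ≤ j + n := by
    by_contra h
    have h1 : 2 ^ (j + n) * 2 ≤ 2 ^ k := by
      rw [← pow_succ]; exact Nat.pow_le_pow_right two_pos (by omega)
    have h2 : (2 ^ j + 1) * m ≤ (2 ^ j + 1) * (2 ^ n - 1) := Nat.mul_le_mul_left _ hm
    have h3 : (2 ^ j + 1) * (2 ^ n - 1) + (2 ^ j + 1) = 2 ^ (j + n) + 2 ^ n := by
      rw [← Nat.mul_succ, Nat.succ_eq_add_one, Nat.sub_add_cancel Nat.one_le_two_pow]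
      ring
    have h4 : 2 ^ n ≤ 2 ^ (j + n) := Nat.pow_le_pow_right two_pos (by omega)
    have h5 : 2 ^ n ≤ 2 ^ j := Nat.pow_le_pow_right two_pos hnj
    have h6 : 0 < 2 ^ n := pow_pos two_pos n
    generalize 2 ^ (j + n) = A at h1 h3 h4
    generalize (2 ^ j + 1) * (2 ^ n - 1) = X at h2 h3
    generalize (2 ^ j + 1) * m = Y at h2 he
    omega
  refine ⟨by omega, ?_⟩
  have h5 : n * i = n * 3 := by omega
  exact Nat.eq_of_mul_eq_mul_left (by omega) h5

variable {Q : Type u} [Group Q] [Finite Q] {L : Subgroup Q} [L.Normal]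

/-- An involution of `↥L` fixing a point lies in it. -/
theorem mem_of_fixed {v : ↥L} (hv : orderOf v = 2) {T : Sylow 2 ↥L} (h : v • T = T) :
    v ∈ (T : Subgroup ↥L) := by
  haveI := Fact.mk Nat.prime_two
  have hP : IsPGroup 2 (zpowers v) := IsPGroup.of_card (n := 1) (by rw [Nat.card_zpowers, hv, pow_one])
  have h1 : v ∈ zpowers v ⊓ normalizer ((T : Subgroup ↥L) : Set ↥L) :=
    ⟨mem_zpowers v, Sylow.smul_eq_iff_mem_normalizer.mp h⟩
  exact ((hP.inf_normalizer_sylow T).le h1).2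

/-- An element fixes the points containing it. -/
theorem fixed_of_mem {v : ↥L} {T : Sylow 2 ↥L} (h : v ∈ (T : Subgroup ↥L)) : v • T = T :=
  Sylow.smul_eq_iff_mem_normalizer.mpr (le_normalizer h)

/-- An element normalising `S` fixes its trace. -/
theorem act_sylowIn (S : Sylow 2 Q) {g : Q}
    (hg : ∀ s ∈ (S : Subgroup Q), g * s * g⁻¹ ∈ (S : Subgroup Q)) :
    act L g (sylowIn S L) = sylowIn S L := by
  refine Sylow.ext ((act L g (sylowIn S L)).is_maximal' (sylowIn S L).isPGroup' fun l hl => ?_).symm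
  obtain ⟨k, hk, e⟩ := (mem_act L).1 hl
  rw [coe_sylowIn, mem_subgroupOf] at hk ⊢
  rw [← e]
  exact hg k hk

/-- A group with normal Sylow 2-subgroup is solvable. -/
theorem isSolvable_normalizer (T : Sylow 2 ↥L) :
    Group.IsSolvable ↥(normalizer ((T : Subgroup ↥L) : Set ↥L)) := by
  haveI := Fact.mk Nat.prime_two
  set N := normalizer ((T : Subgroup ↥L) : Set ↥L) with hN
  let T₁ : Sylow 2 N := T.subtype le_normalizer
  haveI : (T₁ : Subgroup N).Normal := normal_subgroupOf_of_le_normalizer le_rfl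
  refine isSolvable_ext (T₁ : Subgroup N) (isSolvable_isPGroup T₁.isPGroup') (S0205.result ?_)
  rw [← index_eq_card, Nat.odd_iff, ← Nat.two_dvd_ne_zero]
  exact T₁.not_dvd_index

variable {S : Sylow 2 Q} {R : Subgroup Q} {x : Q} {n i : ℕ}

/-- The normalizer of the trace is the trace times the complement. -/
theorem Outer.split (hO : Outer L S R x) {l : ↥L}
    (hl : l ∈ normalizer ((sylowIn S L : Subgroup ↥L) : Set ↥L)) :
    ∃ s ∈ (sylowIn S L : Subgroup ↥L), ∃ r ∈ R, (l : Q) = (s : Q) * r := by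
  obtain ⟨s, hsL, hsS, r, hr, e⟩ := hO.norm_eq l l.2 fun s hsL hsS =>
    (mem_normalizer_iff.mp hl ⟨s, hsL⟩).1 hsS
  exact ⟨⟨s, hsL⟩, hsS, r, hr, e⟩

/-- Nothing of the trace is centralised by the complement. -/
theorem Outer.fixed_eq_one (hO : Outer L S R x) (d : TIData (sylowIn S L) n i) {s : ↥L}
    (hs : s ∈ (sylowIn S L : Subgroup ↥L)) (hsR : ∀ r ∈ R, Commute (s : Q) r) : s = 1 := by
  by_contra h1
  obtain ⟨e, he, heo, -⟩ := exists_central_involution (Y := zpowers s)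
    ((sylowIn S L).isPGroup'.to_le (zpowers_le.2 hs)) (fun h => h1 (zpowers_eq_bot.1 h))
  obtain ⟨k, rfl⟩ := mem_zpowers_iff.1 he
  have heT : s ^ k ∈ (sylowIn S L : Subgroup ↥L) := zpow_mem hs k
  have hsub : {y : ↥L | y ∈ (sylowIn S L : Subgroup ↥L) ∧ orderOf y = 2} ⊆ {s ^ k} := by
    rintro y ⟨hy, hyo⟩
    obtain ⟨g, hg, e⟩ := d.trans (s ^ k) y heT hy heo hyo
    obtain ⟨t, ht, r, hr, egr⟩ := hO.split hg
    rw [Set.mem_singleton_iff, ← e]
    refine Subtype.ext ?_
    have hc : Commute r ((s : Q) ^ k) := ((hsR r hr).zpow_left k).symm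
    have hc' : Commute ((s ^ k : ↥L) : Q) (t : Q) :=
      congrArg Subtype.val (d.inv_central _ heT heo t ht).eq
    push_cast at hc' ⊢
    rw [egr]
    calc (t : Q) * r * (s : Q) ^ k * ((t : Q) * r)⁻¹
        = (t : Q) * (r * (s : Q) ^ k * r⁻¹) * (t : Q)⁻¹ := by group
      _ = (t : Q) * (s : Q) ^ k * (t : Q)⁻¹ := by rw [hc.eq, mul_inv_cancel_right]
      _ = (s : Q) ^ k := by rw [← hc'.eq, mul_inv_cancel_right]
  have h := Set.ncard_le_ncard hsub
  rw [d.ncard_inv, Set.ncard_singleton] at h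
  have h2 : 2 ^ 2 ≤ 2 ^ n := Nat.pow_le_pow_right two_pos d.two_le
  omega

/-- The complement fixes a point off the trace, and only one. -/
theorem Outer.exists_base (hO : Outer L S R x) (d : TIData (sylowIn S L) n i) :
    ∃ b : Sylow 2 ↥L, b ≠ sylowIn S L ∧ (∀ r ∈ R, act L r b = b) ∧
      ∀ b' : Sylow 2 ↥L, b' ≠ sylowIn S L → (∀ r ∈ R, act L r b' = b') → b' = b := by
  haveI := Fact.mk Nat.prime_two
  haveI := hO.simple
  set a := sylowIn S L with ha
  set N := normalizer ((a : Subgroup ↥L) : Set ↥L) with hN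
  have hNa : ∀ g : ↥N, (g : ↥L) • a = a := fun g => Sylow.smul_eq_iff_mem_normalizer.mpr g.2
  letI : MulAction ↥N {T : Sylow 2 ↥L // T ≠ a} :=
    { smul := fun g T => ⟨(g : ↥L) • (T : Sylow 2 ↥L), fun e => T.2 (by
        have h := congrArg ((g : ↥L)⁻¹ • ·) e
        rw [inv_smul_smul] at h
        rw [h, inv_smul_eq_iff]
        exact (hNa g).symm)⟩
      one_smul := fun T => Subtype.ext (one_smul ↥L (T : Sylow 2 ↥L))
      mul_smul := fun g g' T => Subtype.ext (mul_smul (g : ↥L) (g' : ↥L) (T : Sylow 2 ↥L)) }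
  haveI : Nonempty {T : Sylow 2 ↥L // T ≠ a} :=
    ⟨⟨_, (exists_ne_sylow (fun h => hO.noncomm
      ⟨⟨IsSimpleGroup.comm_iff_isSolvable.2 h⟩⟩) a).choose_spec⟩⟩
  have hRN : ∀ r (hr : r ∈ R), (⟨r, hO.R_le hr⟩ : ↥L) ∈ N := fun r hr => by
    refine Sylow.smul_eq_iff_mem_normalizer.mp ?_
    rw [← act_coe]
    exact act_sylowIn S (hO.R_norm r hr)
  let A : Subgroup ↥N := (R.subgroupOf L).subgroupOf N
  let K : Subgroup ↥N := (a : Subgroup ↥L).subgroupOf N
  haveI : K.Normal := normal_subgroupOf_of_le_normalizer le_rfl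
  have hcop : (Nat.card A).Coprime (Nat.card K) := by
    have hK : IsPGroup 2 K := a.isPGroup'.comap_subtype
    have hA : Odd (Nat.card A) := by
      refine hO.R_odd.of_dvd_nat (Dvd.dvd.trans ?_ (dvd_of_eq (Nat.card_congr
        (Subgroup.subgroupOfEquivOfLe hO.R_le).toEquiv)))
      exact Subgroup.card_comap_dvd_of_injective (R.subgroupOf L) N.subtype N.subtype_injective
    exact (PLocal.Cores.coprime_card_of_isPGroup hK (Nat.coprime_two_right.mpr hA)).symm
  obtain ⟨⟨b, hb⟩, hbA⟩ := Coprime.exists_fixedPoint (X := {T : Sylow 2 ↥L // T ≠ a}) (A := A)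
    (K := K) (by rw [normalizer_eq_top]; exact le_top) hcop
    (Or.inr (isSolvable_isPGroup a.isPGroup'.comap_subtype))
    (fun T T' => by
      obtain ⟨s, hs, -⟩ := d.regular T T' T.2 T'.2
      exact ⟨⟨s, le_normalizer s.2⟩, s.2, Subtype.ext hs⟩)
  have hbR : ∀ r ∈ R, act L r b = b := fun r hr => by
    have h := congrArg Subtype.val (hbA ⟨⟨r, hO.R_le hr⟩, hRN r hr⟩ hr)
    exact (act_coe L ⟨r, hO.R_le hr⟩ b).trans h
  refine ⟨b, hb, hbR, fun b' hb' hb'R => ?_⟩
  obtain ⟨s, hsb, -⟩ := d.regular b b' hb hb'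
  obtain ⟨s₀, -, huniq⟩ := d.regular b b' hb hb'
  suffices (s : ↥L) = 1 by rw [← hsb, this, one_smul]
  refine hO.fixed_eq_one d s.2 fun r hr => ?_
  let r' : ↥L := ⟨r, hO.R_le hr⟩
  have hs' : r' * (s : ↥L) * r'⁻¹ ∈ (a : Subgroup ↥L) :=
    (mem_normalizer_iff.mp (hRN r hr) _).1 s.2
  have h1 : (r' * (s : ↥L) * r'⁻¹) • b = b' := by
    have e1 : r' • b = b := (act_coe L r' b).symm.trans (hbR r hr)
    have e2 : r' • b' = b' := (act_coe L r' b').symm.trans (hb'R r hr)
    rw [mul_smul, mul_smul, inv_smul_eq_iff.mpr e1.symm, hsb, e2]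
  have e := congrArg Subtype.val ((huniq ⟨_, hs'⟩ h1).trans (huniq s hsb).symm)
  have e' : r * (s : Q) * r⁻¹ = (s : Q) := congrArg Subtype.val e
  exact (eq_mul_of_mul_inv_eq e').symm

end Cfsg.Agent.CyclicSylowInter
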