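import Cfsg.Agent.Lib.CyclicSylowInter.Outer.Unitary

/-!
# The count of the pairs exchanged by the outer involution

Each swapped pair gives an involution of the centraliser in the simple group, each of which serves
for as many points as are fixed off the trace; the centraliser is transitive on the fixed points, so
the count forces the unitary case.
-/

set_option autoImplicit false
set_option linter.style.haveILetI false
set_option linter.unusedSectionVars false

namespace Cfsg.Agent.CyclicSylowInter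

open Subgroup
open scoped Pointwise commutatorElement
open Cfsg.Agent.ZStar.CyclicIntersections

universe u

variable {Q : Type u} [Group Q] [Finite Q] {L : Subgroup Q} [L.Normal]
variable {S : Sylow 2 Q} {R : Subgroup Q} {x : Q} {n i : ℕ} {b : Sylow 2 ↥L}

theorem commute_conj {g h k : Q} (hg : Commute g h) : Commute (k * g * k⁻¹) (k * h * k⁻¹) := by
  show k * g * k⁻¹ * (k * h * k⁻¹) = k * h * k⁻¹ * (k * g * k⁻¹)
  rw [show k * g * k⁻¹ * (k * h * k⁻¹) = k * (g * h) * k⁻¹ by group, hg.eq]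
  group

/-- A conjugate of the outer involution fixes as many points. -/
theorem act_conj_iff {h : ↥L} {c : Sylow 2 ↥L} :
    act L ((h : Q) * x * (h : Q)⁻¹) c = c ↔ act L x (h⁻¹ • c) = h⁻¹ • c := by
  rw [← act_coe, Subgroup.coe_inv, ← act_act, ← act_act]
  constructor
  · intro e
    apply act_inj L (g := (h : Q))
    rw [e, act_act, mul_inv_cancel, act_one]
  · intro e
    rw [e, act_act, mul_inv_cancel, act_one]

/-- Some element of the centraliser in `L` moves the trace. -/
theorem Outer.exists_move (hO : Outer L S R x) (d : TIData (sylowIn S L) n i)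
    (hb : Base L S R x b) (hQ : Reduced Q) (htop : L ⊔ (S : Subgroup Q) = ⊤) :
    ∃ g : ↥L, Commute x (g : Q) ∧ g • sylowIn S L ≠ sylowIn S L := by
  haveI := Fact.mk Nat.prime_two
  by_contra h
  push Not at h
  -- a second Sylow subgroup containing `x`
  obtain ⟨T, hT⟩ : ∃ T : Sylow 2 Q,
      zpowers x ⊔ (b : Subgroup ↥L).map L.subtype ≤ (T : Subgroup Q) := by
    refine IsPGroup.exists_le_sylow ?_
    rw [sup_comm]
    refine (b.isPGroup'.map _).to_sup_of_normal_left'
      (IsPGroup.of_card (n := 1) (by rw [Nat.card_zpowers, hO.x_order, pow_one])) ?_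
    refine zpowers_le.2 (mem_normalizer_fintype (fun y hy => ?_))
    obtain ⟨l, hl, rfl⟩ := hy
    refine ⟨MulAut.conjNormal x l, ?_, MulAut.conjNormal_apply x l⟩
    have h' := conj_mem_act L x hl
    rwa [hb.fix_x] at h'
  have hTS : T ≠ S := by
    intro e
    subst e
    refine hb.ne (Sylow.ext (b.is_maximal' (sylowIn T L).isPGroup' fun l hl => ?_).symm)
    rw [coe_sylowIn, mem_subgroupOf]
    exact hT (mem_sup_right ⟨l, hl, rfl⟩)
  refine hQ.not_solvable_centralizer hTS hO.x_order hO.x_mem (hT (mem_sup_left (mem_zpowers x)))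
    hO.x_order hO.x_mem (fun hc => ?_) ?_
  · obtain ⟨s, -, hs, hns⟩ := hO.x_noncentral
    exact hns (hc s hs)
  -- the centraliser would be solvable
  let C := cen x
  let N : Subgroup ↥C := L.subgroupOf C
  have hN : Group.IsSolvable ↥N := by
    haveI := isSolvable_normalizer (sylowIn S L)
    let f : ↥N →* ↥(normalizer ((sylowIn S L : Subgroup ↥L) : Set ↥L)) :=
      { toFun := fun y => ⟨⟨((y : ↥C) : Q), y.2⟩, Sylow.smul_eq_iff_mem_normalizer.mp
          (h _ (mem_cent.1 (y : ↥C).2).symm)⟩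
        map_one' := rfl
        map_mul' := fun _ _ => rfl }
    exact Group.isSolvable_of_isSolvable_injective (f := f) fun a c e =>
      Subtype.ext (Subtype.ext (congrArg (fun z : ↥(normalizer ((sylowIn S L : Subgroup ↥L) : Set ↥L)) =>
        ((z : ↥L) : Q)) e))
  have hquot : IsPGroup 2 (Q ⧸ L) := by
    have h : (S : Subgroup Q).map (QuotientGroup.mk' L) = ⊤ := by
      rw [← Subgroup.map_top_of_surjective _ (QuotientGroup.mk'_surjective L), ← htop, Subgroup.map_sup,
        show L.map (QuotientGroup.mk' L) = ⊥ by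
          rw [Subgroup.map_eq_bot_iff, QuotientGroup.ker_mk'], bot_sup_eq]
    have := S.isPGroup'.map (QuotientGroup.mk' L)
    rw [h] at this
    exact this.of_equiv Subgroup.topEquiv
  haveI := isSolvable_isPGroup hquot
  refine isSolvable_ext N hN (Group.isSolvable_of_isSolvable_injective
    (f := QuotientGroup.map N L C.subtype (fun y hy => hy)) ?_)
  rw [← MonoidHom.ker_eq_bot_iff, eq_bot_iff]
  intro y hy
  obtain ⟨z, rfl⟩ := QuotientGroup.mk_surjective y
  rw [mem_bot, QuotientGroup.eq_one_iff]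
  exact (QuotientGroup.eq_one_iff (N := L) (z : Q)).1 (MonoidHom.mem_ker.1 hy :)

/-- There is no outer involution over a simple group with unique Sylow subgroups of involutions. -/
theorem Outer.false_of_ti (hO : Outer L S R x) (d : TIData (sylowIn S L) n i) (hti : TISylow ↥L)
    (hQ : Reduced Q) (htop : L ⊔ (S : Subgroup Q) = ⊤) : False := by
  classical
  haveI := Fact.mk Nat.prime_two
  obtain ⟨b, hb⟩ := hO.base d
  set a := sylowIn S L with ha
  have hxx : x * x = 1 := mul_self_of_orderOf hO.x_order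
  letI : Fintype ↥L := Fintype.ofFinite _
  letI : Fintype (Sylow 2 ↥L) := Fintype.ofFinite _
  set C := centTrace S L x with hC
  let Γ : Finset (Sylow 2 ↥L) := Finset.univ.filter fun c => act L x c = c
  have hΓ : ∀ c, c ∈ Γ ↔ act L x c = c := fun c => by simp [Γ]
  have hinj : ∀ s ∈ (a : Subgroup ↥L), ∀ s' ∈ (a : Subgroup ↥L), s • b = s' • b → s = s' := by
    intro s hs s' hs' e
    have hne : s' • b ≠ a := fun e' => hb.ne (by
      rw [← inv_smul_eq_iff.2 e'.symm]; exact fixed_of_mem (inv_mem hs'))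
    obtain ⟨s₀, -, hu⟩ := d.regular b (s' • b) hb.ne hne
    exact congrArg Subtype.val ((hu ⟨s, hs⟩ e).trans (hu ⟨s', hs'⟩ rfl).symm)
  have hsbne : ∀ s ∈ (a : Subgroup ↥L), s • b ≠ a := fun s hs e => hb.ne (by
    rw [← inv_smul_eq_iff.2 e.symm]; exact fixed_of_mem (inv_mem hs))
  -- counting the points
  have hcardΓ : Γ.card = Nat.card ↥C + 1 := by
    have e : Γ = insert a ((Finset.univ.filter fun s : ↥L => s ∈ C).image fun s => s • b) := by
      ext c
      rw [hΓ, hO.fix_iff d hb]
      simp [C, a]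
    rw [e, Finset.card_insert_of_notMem, Finset.card_image_of_injOn, Nat.card_eq_fintype_card,
      Fintype.card_subtype]
    · intro s hs s' hs' e
      simp only [Finset.coe_filter, Finset.mem_univ, true_and, Set.mem_ofPred_eq] at hs hs'
      exact hinj s (mem_centTrace.1 hs).1 s' (mem_centTrace.1 hs').1 e
    · simp only [Finset.mem_image, Finset.mem_filter, Finset.mem_univ, true_and, not_exists, not_and]
      exact fun s hs => hsbne s (mem_centTrace.1 hs).1
  have hcard : Fintype.card (Sylow 2 ↥L) = Nat.card ↥(a : Subgroup ↥L) + 1 := by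
    have e : (Finset.univ : Finset (Sylow 2 ↥L)) =
        insert a ((Finset.univ.filter fun s : ↥L => s ∈ (a : Subgroup ↥L)).image fun s => s • b) := by
      ext c
      simp only [Finset.mem_univ, Finset.mem_insert, Finset.mem_image, Finset.mem_filter, true_and,
        true_iff]
      by_cases hca : c = a
      · exact Or.inl hca
      obtain ⟨s, hs, -⟩ := d.regular b c hb.ne hca
      exact Or.inr ⟨s, s.2, hs⟩
    rw [← Finset.card_univ, e, Finset.card_insert_of_notMem, Finset.card_image_of_injOn,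
      Nat.card_eq_fintype_card, Fintype.card_subtype]
    · intro s hs s' hs' e
      simp only [Finset.coe_filter, Finset.mem_univ, true_and, Set.mem_ofPred_eq] at hs hs'
      exact hinj s hs s' hs' e
    · simp only [Finset.mem_image, Finset.mem_filter, Finset.mem_univ, true_and, not_exists, not_and]
      exact hsbne
  -- the involutions of the swapped pairs
  let V : Finset ↥L := Finset.univ.filter fun v =>
    orderOf v = 2 ∧ Commute x (v : Q) ∧ ∃ h : ↥L, (h : Q) * x * (h : Q)⁻¹ = x * v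
  have hV : ∀ v, v ∈ V ↔ orderOf v = 2 ∧ Commute x (v : Q) ∧
      ∃ h : ↥L, (h : Q) * x * (h : Q)⁻¹ = x * v := fun v => by simp [V]
  let φ : Sylow 2 ↥L → ↥L := fun c =>
    if hc : act L x c ≠ c then (hO.exists_swap d hb hc).choose else 1
  have hφ : ∀ c, act L x c ≠ c → φ c ∈ V ∧ act L (x * φ c) c = c ∧
      ∀ v' : ↥L, orderOf v' = 2 → Commute x (v' : Q) → act L (x * v') c = c → v' = φ c := by
    intro c hc
    simp only [φ, dif_pos hc]
    obtain ⟨h1, h2, h3, h4, h5⟩ := (hO.exists_swap d hb hc).choose_spec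
    exact ⟨(hV _).2 ⟨h1, h2, h3⟩, h4, h5⟩
  -- the point of an involution
  let ψ : ↥L → Sylow 2 ↥L := fun v =>
    if hv : orderOf v = 2 then (exists_sylow_mem hv).choose else a
  have hψ : ∀ v e, orderOf v = 2 → (ψ v = e ↔ v ∈ (e : Subgroup ↥L)) := by
    intro v e hv
    have hmem : v ∈ (ψ v : Subgroup ↥L) := by
      simp only [ψ, dif_pos hv]
      exact (exists_sylow_mem hv).choose_spec
    exact ⟨fun h => h ▸ hmem, fun h => hti _ _ v hv hmem h⟩
  have hψΓ : ∀ v ∈ V, ψ v ∈ Γ := by
    intro v hv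
    obtain ⟨ho, hc, -⟩ := (hV v).1 hv
    rw [hΓ]
    symm
    rw [hψ v _ ho, mem_act]
    exact ⟨v, (hψ v _ ho).1 rfl, by rw [hc.eq, mul_inv_cancel_right]⟩
  have hfib : ∀ v ∈ V, ((Finset.univ \ Γ).filter fun c => φ c = v).card = Nat.card ↥C := by
    intro v hv
    obtain ⟨ho, hc, h, hh⟩ := (hV v).1 hv
    let F : Finset (Sylow 2 ↥L) := Γ.image fun c => h • c
    have hF : ∀ c, c ∈ F ↔ act L (x * v) c = c := by
      intro c
      rw [← hh, act_conj_iff, ← hΓ, Finset.mem_image]
      exact ⟨fun ⟨c', hc', e⟩ => by rw [← e, inv_smul_smul]; exact hc',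
        fun hc' => ⟨_, hc', smul_inv_smul h c⟩⟩
    have e : (Finset.univ \ Γ).filter (fun c => φ c = v) = F.erase (ψ v) := by
      ext c
      simp only [Finset.mem_filter, Finset.mem_sdiff, Finset.mem_univ, true_and, Finset.mem_erase,
        hΓ, hF]
      constructor
      · rintro ⟨hxc, hcv⟩
        refine ⟨fun e => hxc ?_, hcv ▸ (hφ c hxc).2.1⟩
        rw [e]; exact (hΓ _).1 (hψΓ v hv)
      · rintro ⟨hne, hvc⟩
        have hxc : ¬ act L x c = c := by
          intro hxc
          refine hne ((hψ v c ho).2 (mem_of_fixed ho ?_)).symm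
          rw [← act_coe]
          rw [← act_act] at hvc
          exact act_inj L (hvc.trans hxc.symm)
        exact ⟨hxc, ((hφ c hxc).2.2 v ho hc hvc).symm⟩
    rw [e, Finset.card_erase_of_mem, Finset.card_image_of_injective _ (MulAction.injective h),
      hcardΓ, Nat.add_sub_cancel]
    rw [hF, ← act_act, act_coe, fixed_of_mem ((hψ v _ ho).1 rfl)]
    exact (hΓ _).1 (hψΓ v hv)
  have hsum1 : (Finset.univ \ Γ).card = V.card * Nat.card ↥C := by
    rw [Finset.card_eq_sum_card_fiberwise (f := φ) (t := V), Finset.sum_congr rfl hfib,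
      Finset.sum_const, smul_eq_mul]
    intro c hc
    simp only [Finset.coe_sdiff, Finset.coe_univ, Set.mem_sdiff, Set.mem_univ, true_and,
      Finset.mem_coe, hΓ] at hc
    exact (hφ c hc).1
  -- the centraliser is transitive on the fixed points
  have htrans : ∀ e ∈ Γ, ∃ g : ↥L, Commute x (g : Q) ∧ g • a = e := by
    obtain ⟨g, hgc, hga⟩ := hO.exists_move d hb hQ htop
    intro e he
    rw [hΓ, hO.fix_iff d hb] at he
    rcases he with rfl | ⟨s, hs, rfl⟩
    · exact ⟨1, Commute.one_right x, one_smul _ _⟩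
    have hfx : act L x (g • a) = g • a := by
      rw [← act_coe, act_act, hgc.eq, ← act_act, hO.fix_trace]
    obtain hg' | ⟨s', hs', hsb'⟩ := (hO.fix_iff d hb).1 hfx
    · exact absurd hg' hga
    refine ⟨s * s'⁻¹ * g, ?_, ?_⟩
    · push_cast
      exact (((mem_centTrace.1 hs).2).mul_right (mem_centTrace.1 hs').2.inv_right).mul_right hgc
    · rw [mul_smul, mul_smul, ← hsb', inv_smul_smul]
  let Va : Finset ↥L := V.filter fun v => ψ v = a
  have hfib2 : ∀ e ∈ Γ, (V.filter fun v => ψ v = e).card = Va.card := by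
    intro e he
    obtain ⟨g, hgc, hge⟩ := htrans e he
    have hconjV : ∀ (k v : ↥L), Commute x (k : Q) → v ∈ V → k * v * k⁻¹ ∈ V := by
      intro k v hk hv
      obtain ⟨ho, hc, h, hh⟩ := (hV v).1 hv
      have hkx : (k : Q) * x * (k : Q)⁻¹ = x := by rw [← hk.eq, mul_inv_cancel_right]
      refine (hV _).2 ⟨by rw [Involutions.Basic.orderOf_conj, ho], ?_, k * h * k⁻¹, ?_⟩
      · have := commute_conj (k := (k : Q)) hc
        rw [hkx] at this
        exact this
      · push_cast
        calc (k : Q) * h * (k : Q)⁻¹ * x * ((k : Q) * h * (k : Q)⁻¹)⁻¹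
            = (k : Q) * h * ((k : Q)⁻¹ * x * k) * (h : Q)⁻¹ * (k : Q)⁻¹ := by group
          _ = (k : Q) * ((h : Q) * x * (h : Q)⁻¹) * (k : Q)⁻¹ := by
            rw [show (k : Q)⁻¹ * x * k = x by rw [mul_assoc, hk.eq, inv_mul_cancel_left]]; group
          _ = x * ((k : Q) * v * (k : Q)⁻¹) := by
            rw [hh, ← mul_assoc, ← hk.eq]; group
    refine (Finset.card_nbij' (fun v => g * v * g⁻¹) (fun v => g⁻¹ * v * g) ?_ ?_ ?_ ?_).symm
    · intro v hv
      simp only [Va, Finset.coe_filter, Set.mem_ofPred_eq] at hv ⊢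
      have hm := hconjV g v hgc hv.1
      refine ⟨hm, (hψ _ _ ((hV _).1 hm).1).2 ?_⟩
      rw [← hge]
      exact conj_mem_smul g ((hψ _ _ ((hV _).1 hv.1).1).1 hv.2)
    · intro v hv
      simp only [Va, Finset.coe_filter, Set.mem_ofPred_eq] at hv ⊢
      have hm : g⁻¹ * v * g ∈ V := by
        have := hconjV g⁻¹ v (by push_cast; exact hgc.inv_right) hv.1
        rwa [inv_inv] at this
      refine ⟨hm, (hψ _ _ ((hV _).1 hm).1).2 ?_⟩
      have h1 := (hψ _ _ ((hV _).1 hv.1).1).1 hv.2
      rw [← hge, mem_smul] at h1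
      exact h1
    · intro v _; group
    · intro v _; group
  have hsum2 : V.card = Γ.card * Va.card := by
    rw [Finset.card_eq_sum_card_fiberwise (f := ψ) (t := Γ) hψΓ, Finset.sum_congr rfl hfib2,
      Finset.sum_const, smul_eq_mul]
  have hm : Va.card ≤ 2 ^ n - 1 := by
    rw [← d.ncard_inv, ← Set.ncard_coe_finset]
    refine Set.ncard_le_ncard fun v hv => ?_
    simp only [Va, Finset.coe_filter, Set.mem_ofPred_eq] at hv
    exact ⟨(hψ _ _ ((hV _).1 hv.1).1).1 hv.2, ((hV _).1 hv.1).1⟩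
  -- the orders
  obtain ⟨j, hj⟩ : ∃ j, Nat.card ↥C = 2 ^ j :=
    IsPGroup.iff_card.1 (a.isPGroup'.to_le (inf_le_left : C ≤ (a : Subgroup ↥L)))
  have hCinv : insert 1 {v : ↥L | v ∈ (a : Subgroup ↥L) ∧ orderOf v = 2} ⊆ (C : Set ↥L) := by
    rintro v (rfl | ⟨hv, ho⟩)
    · exact one_mem C
    · exact mem_centTrace.2 ⟨hv, hO.x_inv v v.2 hv (by rw [Subgroup.orderOf_coe]; exact ho)⟩
  have hnotin : (1 : ↥L) ∉ {v : ↥L | v ∈ (a : Subgroup ↥L) ∧ orderOf v = 2} := fun h => by
    have := h.2; rw [orderOf_one] at this; omega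
  have hins : (insert 1 {v : ↥L | v ∈ (a : Subgroup ↥L) ∧ orderOf v = 2}).ncard = 2 ^ n := by
    rw [Set.ncard_insert_of_notMem hnotin, d.ncard_inv, Nat.sub_add_cancel Nat.one_le_two_pow]
  have hnj : n ≤ j := by
    have h := Set.ncard_le_ncard hCinv
    rw [hins, ← Nat.card_coe_set_eq, SetLike.coe_sort_coe, hj] at h
    exact (Nat.pow_le_pow_iff_right one_lt_two).1 h
  have hlt : Nat.card ↥C < Nat.card ↥(a : Subgroup ↥L) := by
    refine lt_of_le_of_ne (Subgroup.card_le_of_le inf_le_left) fun e => ?_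
    obtain ⟨s, hsL, hsS, hns⟩ := hO.x_noncentral
    have hCa : C = (a : Subgroup ↥L) := Subgroup.eq_of_le_of_card_ge inf_le_left e.ge
    have hsC : (⟨s, hsL⟩ : ↥L) ∈ C := hCa ▸ hsS
    exact hns (mem_centTrace.1 hsC).2
  rw [hj, d.card_sylow, ← pow_mul] at hlt
  have hjlt : j < n * i := (Nat.pow_lt_pow_iff_right one_lt_two).1 hlt
  obtain ⟨k, hk⟩ : ∃ k, n * i = j + k := ⟨n * i - j, by omega⟩
  have hi3 : i ≤ 3 := by rcases d.i_mem with h | h | h <;> omega
  have hcount : 2 ^ k = (2 ^ j + 1) * Va.card + 1 := by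
    have hd : (Finset.univ \ Γ).card = Fintype.card (Sylow 2 ↥L) - Γ.card := by
      rw [Finset.card_sdiff_of_subset (Finset.subset_univ _), Finset.card_univ]
    rw [hcard, hcardΓ, hj, d.card_sylow, ← pow_mul, hk, hsum1, hsum2, hcardΓ, hj] at hd
    have hle : 2 ^ j ≤ 2 ^ (j + k) := Nat.pow_le_pow_right two_pos (by omega)
    have h3 : 2 ^ j * 2 ^ k = 2 ^ j * ((2 ^ j + 1) * Va.card + 1) := by
      rw [← pow_add]
      have : 2 ^ j * ((2 ^ j + 1) * Va.card + 1) = (2 ^ j + 1) * Va.card * 2 ^ j + 2 ^ j := by ring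
      omega
    exact Nat.eq_of_mul_eq_mul_left (pow_pos two_pos j) h3
  obtain ⟨hjn, hi⟩ := count_arith d.two_le hnj hk.symm hi3 (by omega) hcount hm
  obtain ⟨s, hs, hs1, hso⟩ := hO.not_all_inv d hb hi
  have heq : insert 1 {v : ↥L | v ∈ (a : Subgroup ↥L) ∧ orderOf v = 2} = (C : Set ↥L) := by
    refine Set.eq_of_subset_of_ncard_le hCinv ?_
    rw [hins, ← Nat.card_coe_set_eq, SetLike.coe_sort_coe, hj, hjn]
  have : s ∈ insert 1 {v : ↥L | v ∈ (a : Subgroup ↥L) ∧ orderOf v = 2} := by rw [heq]; exact hs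
  rcases this with h | h
  · exact hs1 h
  · exact hso h.2

/-- The simple normal subgroup of a reduced group covers a Sylow 2-subgroup. -/
theorem sylow_le_socle (hF : KindFacts.{u}) (hT : TITheorem.{u}) (hQ : Reduced Q)
    [IsSimpleGroup ↥L] (hne : ¬ IsMulCommutative ↥L) (h5 : Five ↥L) (S : Sylow 2 Q)
    (htop : L ⊔ (S : Subgroup Q) = ⊤) : (S : Subgroup Q) ≤ L := by
  by_contra hS
  obtain ⟨R, x, hO⟩ := exists_outer hF hT hQ L hne h5 S htop hS
  by_cases hti : TISylow ↥L
  · obtain ⟨n, i, d⟩ := (hF.1 ↥L (hT ↥L hne (hQ.cycInt.subgroup L) hti)).2.2 (sylowIn S L)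
    exact hO.false_of_ti d hti hQ htop
  · obtain ⟨s, hsL, hsS, hns⟩ := hO.x_noncentral
    by_cases hs1 : s = 1
    · exact hns (hs1 ▸ Commute.one_right x)
    refine hns (hO.x_inv s hsL hsS (orderOf_eq_prime ?_ hs1))
    rw [pow_two]
    exact congrArg Subtype.val
      ((hF.2 ↥L h5).2 hti (sylowIn S L) ⟨s, hsL⟩ hsS ⟨s, hsL⟩ hsS).2

end Cfsg.Agent.CyclicSylowInter
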