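import Cfsg.Agent.Lib.CyclicSylowInter.Congr
import Cfsg.Agent.Lib.Coprime.Commutator
import Cfsg.Agent.Lib.Coprime.Action

/-!
# An outer involution fixed by the normaliser complement

In a reduced group `Q = L S` with `L` simple on the list and `S ≰ L` there is an involution outside
`L` centralised by the complement `R ≤ L` of `S` in its normalizer; it centralises all involutions
of `S ⊓ L` and not all of `S ⊓ L`.
-/

set_option autoImplicit false
set_option linter.style.haveILetI false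
set_option linter.unusedSectionVars false

namespace Cfsg.Agent.CyclicSylowInter

open Subgroup
open scoped Pointwise commutatorElement
open Cfsg.Agent.ZStar.CyclicIntersections

universe u

variable {Q : Type u} [Group Q] [Finite Q]

/-- The data of the outer involution. -/
structure Outer (L : Subgroup Q) (S : Sylow 2 Q) (R : Subgroup Q) (x : Q) : Prop where
  normal : L.Normal
  simple : IsSimpleGroup ↥L
  noncomm : ¬ IsMulCommutative ↥L
  R_le : R ≤ L
  R_norm : ∀ r ∈ R, ∀ s ∈ (S : Subgroup Q), r * s * r⁻¹ ∈ (S : Subgroup Q)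
  R_odd : Odd (Nat.card ↥R)
  /-- the normalizer of the trace is the trace times the complement -/
  norm_eq : ∀ n ∈ L, (∀ s ∈ L, s ∈ (S : Subgroup Q) → n * s * n⁻¹ ∈ (S : Subgroup Q)) →
    ∃ s ∈ L, s ∈ (S : Subgroup Q) ∧ ∃ r ∈ R, n = s * r
  x_mem : x ∈ (S : Subgroup Q)
  x_order : orderOf x = 2
  x_notMem : x ∉ L
  x_R : ∀ r ∈ R, Commute x r
  x_inv : ∀ w ∈ L, w ∈ (S : Subgroup Q) → orderOf w = 2 → Commute x w
  x_noncentral : ∃ s ∈ L, s ∈ (S : Subgroup Q) ∧ ¬ Commute x s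

/-- The normalizer of the trace of `S` normalizes `S`. -/
theorem mem_normalizer_of_trace (hQ : Reduced Q) (L : Subgroup Q) [L.Normal] [IsSimpleGroup ↥L]
    (hne : ¬ IsMulCommutative ↥L) (S : Sylow 2 Q) {n : Q}
    (hn : ∀ s ∈ L, s ∈ (S : Subgroup Q) → n * s * n⁻¹ ∈ (S : Subgroup Q)) :
    n ∈ normalizer ((S : Subgroup Q) : Set Q) := by
  obtain ⟨z, z', hz, hz', oz, oz', hzz, -, -⟩ :=
    (reduced_of_simple hne (hQ.cycInt.subgroup L)).exists_two_central (sylowIn S L)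
  rw [coe_sylowIn, mem_subgroupOf] at hz hz'
  refine Sylow.smul_eq_iff_mem_normalizer.mp (hQ.cycInt.eq_of_two (conj_mem_smul n hz)
    (hn z z.2 hz) (conj_mem_smul n hz') (hn z' z'.2 hz') ?_ ?_ fun e => hzz (Subtype.ext
      (mul_left_cancel (mul_right_cancel e))))
  · rw [Involutions.Basic.orderOf_conj, Subgroup.orderOf_coe, oz]
  · rw [Involutions.Basic.orderOf_conj, Subgroup.orderOf_coe, oz']

/-- A group of the list: involutions of a Sylow subgroup are central in it. -/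
theorem five_local (hF : KindFacts.{u}) (hT : TITheorem.{u}) {L : Type u} [Group L] [Finite L]
    [IsSimpleGroup L] (hne : ¬ IsMulCommutative L) (hC : CycInt L) (h5 : Five L)
    (T : Sylow 2 L) : ∀ w ∈ (T : Subgroup L), orderOf w = 2 →
      ∀ s ∈ (T : Subgroup L), Commute w s := by
  intro w hw how s hs
  by_cases hti : TISylow L
  · obtain ⟨n, i, d⟩ := (hF.1 L (hT L hne hC hti)).2.2 T
    exact d.inv_central w hw how s hs
  · exact ((hF.2 L h5).2 hti T w hw s hs).1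

/-- Existence of the outer involution. -/
theorem exists_outer (hF : KindFacts.{u}) (hT : TITheorem.{u}) (hQ : Reduced Q) (L : Subgroup Q)
    [hL : L.Normal] [hsimp : IsSimpleGroup ↥L] (hne : ¬ IsMulCommutative ↥L) (h5 : Five ↥L)
    (S : Sylow 2 Q) (htop : L ⊔ (S : Subgroup Q) = ⊤) (hS : ¬ (S : Subgroup Q) ≤ L) :
    ∃ R x, Outer L S R x := by
  haveI := Fact.mk Nat.prime_two
  obtain ⟨R, hRN, hRodd, hNR⟩ := exists_complement S
  have hquot : IsPGroup 2 (Q ⧸ L) := by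
    have h : (S : Subgroup Q).map (QuotientGroup.mk' L) = ⊤ := by
      rw [← Subgroup.map_top_of_surjective _ (QuotientGroup.mk'_surjective L), ← htop, Subgroup.map_sup,
        show L.map (QuotientGroup.mk' L) = ⊥ by
          rw [Subgroup.map_eq_bot_iff, QuotientGroup.ker_mk'], bot_sup_eq]
    have := S.isPGroup'.map (QuotientGroup.mk' L)
    rw [h] at this
    exact this.of_equiv Subgroup.topEquiv
  have hRL : R ≤ L := by
    rw [← QuotientGroup.ker_mk' L, ← Subgroup.map_eq_bot_iff]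
    exact PLocal.Cores.not_isPGroup_coprime (hquot.to_subgroup _)
      ((Nat.coprime_two_right.mpr hRodd).coprime_dvd_left (R.card_map_dvd _))
  have hcop : (Nat.card R).Coprime (Nat.card S) :=
    (PLocal.Cores.coprime_card_of_isPGroup S.isPGroup' (Nat.coprime_two_right.mpr hRodd)).symm
  have hnorm : ∀ r ∈ R, ∀ s ∈ (S : Subgroup Q), r * s * r⁻¹ ∈ (S : Subgroup Q) :=
    fun r hr s hs => (mem_normalizer_iff.mp (hRN hr) s).1 hs
  have hnormeq : ∀ n ∈ L, (∀ s ∈ L, s ∈ (S : Subgroup Q) → n * s * n⁻¹ ∈ (S : Subgroup Q)) →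
      ∃ s ∈ L, s ∈ (S : Subgroup Q) ∧ ∃ r ∈ R, n = s * r := by
    intro n hn hns
    obtain ⟨s, hs, r, hr, rfl⟩ := (Coprime.mem_sup_of_le_normalizer hRN).mp
      (hNR (mem_normalizer_of_trace hQ L hne S hns))
    exact ⟨s, (L.mul_mem_cancel_right (hRL hr)).1 hn, hs, r, hr, rfl⟩
  set SL := sylowIn S L with hSL
  have hloc := five_local hF hT hne (hQ.cycInt.subgroup L) h5 SL
  have hcomm : ∀ w ∈ L, w ∈ (S : Subgroup Q) → orderOf w = 2 →
      ∀ s ∈ L, s ∈ (S : Subgroup Q) → Commute w s := by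
    intro w hwL hwS how s hsL hsS
    have := hloc ⟨w, hwL⟩ hwS (by rw [← Subgroup.orderOf_coe]; exact how) ⟨s, hsL⟩ hsS
    exact congrArg Subtype.val this.eq
  have hredL := reduced_of_simple hne (hQ.cycInt.subgroup L)
  -- nothing of the trace is fixed by the complement
  have hfix : ∀ d ∈ L, d ∈ (S : Subgroup Q) → (∀ r ∈ R, Commute d r) → d = 1 := by
    intro d hdL hdS hdR
    by_contra hd1
    obtain ⟨e, he, heo, -⟩ := exists_central_involution (Y := zpowers d)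
      (S.isPGroup'.to_le (zpowers_le.2 hdS)) (fun h => hd1 (zpowers_eq_bot.1 h))
    obtain ⟨k, rfl⟩ := mem_zpowers_iff.1 he
    have heL : d ^ k ∈ L := zpow_mem hdL k
    have heS : d ^ k ∈ (S : Subgroup Q) := zpow_mem hdS k
    obtain ⟨n, hn, hnne⟩ := hredL.exists_moved SL (z := ⟨d ^ k, heL⟩)
      (by rw [← Subgroup.orderOf_coe]; exact heo) heS
      (fun s hs => Subtype.ext (hcomm _ heL heS heo s s.2 hs).eq)
    obtain ⟨s, hsL, hsS, r, hr, hnsr⟩ := hnormeq n n.2 fun s hsL hsS =>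
      (mem_normalizer_iff.mp hn ⟨s, hsL⟩).1 hsS
    refine hnne (Subtype.ext ?_)
    show (n : Q) * d ^ k * (n : Q)⁻¹ = d ^ k
    rw [hnsr]
    calc s * r * d ^ k * (s * r)⁻¹ = s * (r * d ^ k * r⁻¹) * s⁻¹ := by group
      _ = s * d ^ k * s⁻¹ := by rw [((hdR r hr).zpow_left k).eq.symm, mul_inv_cancel_right]
      _ = d ^ k := by rw [← (hcomm _ heL heS heo s hsL hsS).eq, mul_inv_cancel_right]
  set Y := (S : Subgroup Q) ⊓ centralizer (R : Set Q) with hY
  have hdec : ∀ s ∈ (S : Subgroup Q), ∃ c ∈ Y, ∃ d ∈ L, d ∈ (S : Subgroup Q) ∧ s = c * d := by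
    intro s hs
    obtain ⟨c, hc, d, hd, rfl⟩ := Coprime.exists_eq_centralizer_mul_commutator hRN hcop
      (Or.inr (isSolvable_isPGroup S.isPGroup')) hs
    refine ⟨c, hc, d, ?_, (Subgroup.mul_mem_cancel_left _ hc.1).1 hs, rfl⟩
    exact (commutator_le.2 fun a _ b hb => mul_mem (hL.conj_mem b (hRL hb) a) (inv_mem (hRL hb))) hd
  obtain ⟨x, hxY, hx, hxc⟩ := exists_central_involution (Y := Y) (S.isPGroup'.to_le inf_le_left)
    (fun h => hS fun s hs => by
      obtain ⟨c, hc, d, hd, -, rfl⟩ := hdec s hs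
      rw [h, mem_bot] at hc
      rw [hc, one_mul]
      exact hd)
  have hxR : ∀ r ∈ R, Commute x r := fun r hr => (mem_centralizer_iff.1 hxY.2 r hr).symm
  have hxL : x ∉ L := fun h => by
    rw [hfix x h hxY.1 hxR, orderOf_one] at hx
    exact absurd hx (by norm_num)
  have hxmove : ¬ ∀ s ∈ (S : Subgroup Q), Commute x s := by
    intro hc
    obtain ⟨n, hn, hne'⟩ := hQ.exists_moved S hx hxY.1 hc
    obtain ⟨s, hs, r, hr, rfl⟩ := (Coprime.mem_sup_of_le_normalizer hRN).mp (hNR hn)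
    refine hne' ?_
    calc s * r * x * (s * r)⁻¹ = s * (r * x * r⁻¹) * s⁻¹ := by group
      _ = s * x * s⁻¹ := by rw [(hxR r hr).eq.symm, mul_inv_cancel_right]
      _ = x := by rw [← (hc s hs).eq, mul_inv_cancel_right]
  have hxnc : ∃ s ∈ L, s ∈ (S : Subgroup Q) ∧ ¬ Commute x s := by
    by_contra! h
    refine hxmove fun s hs => ?_
    obtain ⟨c, hc, d, hdL, hdS, rfl⟩ := hdec s hs
    exact (hxc c hc).mul_right (h d hdL hdS)
  -- an involution of the trace central in `S`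
  obtain ⟨z, -, hzS, -, hz, -, -, hzc, -⟩ := hQ.exists_two_central S
  obtain ⟨n, hn, hnz⟩ := hQ.exists_moved S hz hzS hzc
  obtain ⟨s₀, hs₀, r₀, hr₀, rfl⟩ := (Coprime.mem_sup_of_le_normalizer hRN).mp (hNR hn)
  set d₀ := r₀ * z * r₀⁻¹ * z⁻¹ with hd₀
  have hd₀L : d₀ ∈ L := by
    rw [hd₀, show r₀ * z * r₀⁻¹ * z⁻¹ = r₀ * (z * r₀⁻¹ * z⁻¹) by group]
    exact mul_mem (hRL hr₀) (hL.conj_mem _ (inv_mem (hRL hr₀)) z)
  have hd₀S : d₀ ∈ (S : Subgroup Q) := mul_mem (hnorm r₀ hr₀ z hzS) (inv_mem hzS)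
  have hd₀c : ∀ s ∈ (S : Subgroup Q), Commute d₀ s := fun s hs =>
    (commute_conj_of_normalizer (hRN hr₀) hzc hs).mul_left (hzc s hs).inv_left
  have hd₀ne : d₀ ≠ 1 := fun h => hnz (by
    rw [hd₀, mul_inv_eq_one] at h
    calc s₀ * r₀ * z * (s₀ * r₀)⁻¹ = s₀ * (r₀ * z * r₀⁻¹) * s₀⁻¹ := by group
      _ = s₀ * z * s₀⁻¹ := by rw [h]
      _ = z := by rw [← (hzc s₀ hs₀).eq, mul_inv_cancel_right])
  have hd₀o : orderOf d₀ = 2 := by
    refine orderOf_eq_prime ?_ hd₀ne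
    have hzz := mul_self_of_orderOf hz
    have hcz : Commute (r₀ * z * r₀⁻¹) z := commute_conj_of_normalizer (hRN hr₀) hzc hzS
    rw [pow_two, hd₀, inv_eq_of_mul_eq_one_right hzz, hcz.symm.mul_mul_mul_comm, hzz, mul_one,
      show r₀ * z * r₀⁻¹ * (r₀ * z * r₀⁻¹) = r₀ * (z * z) * r₀⁻¹ by group, hzz]
    group
  refine ⟨R, x, hL, hsimp, hne, hRL, hnorm, hRodd, hnormeq, hxY.1, hx, hxL, hxR,
    fun w hwL hwS how => ?_, hxnc⟩
  obtain ⟨g, hg⟩ := isConj_iff.1 ((hF.2 _ h5).1 ⟨d₀, hd₀L⟩ ⟨w, hwL⟩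
    (by rw [← Subgroup.orderOf_coe]; exact hd₀o) (by rw [← Subgroup.orderOf_coe]; exact how))
  obtain ⟨m, hm, em⟩ := exists_normalizer_fusion hredL SL (x := ⟨d₀, hd₀L⟩) hd₀S (g := g)
    (by rw [hg]; exact hwS)
  obtain ⟨s, hsL, hsS, r, hr, hmsr⟩ := hnormeq m m.2 fun s hsL hsS =>
    (mem_normalizer_iff.mp hm ⟨s, hsL⟩).1 hsS
  have hw : w = s * (r * d₀ * r⁻¹) * s⁻¹ := by
    have h := congrArg Subtype.val (em.trans hg)
    rw [← show (m : Q) * d₀ * (m : Q)⁻¹ = w from h, hmsr]; group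
  have hc' : Commute s (r * d₀ * r⁻¹) := (commute_conj_of_normalizer (hRN hr) hd₀c hsS).symm
  rw [hw, hc'.eq, mul_inv_cancel_right]
  exact ((hxR r hr).mul_right (hd₀c x hxY.1).symm).mul_right (hxR r hr).inv_right

end Cfsg.Agent.CyclicSylowInter
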