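import Cfsg.Agent.Lib.CyclicSylowInter.Outer.Count

/-!
# The swapped pairs of the outer involution

Every pair of points exchanged by the outer involution is fixed by exactly one conjugate of it in
its coset.
-/

set_option autoImplicit false
set_option linter.style.haveILetI false
set_option linter.unusedSectionVars false

namespace Cfsg.Agent.CyclicSylowInter

open Subgroup
open scoped Pointwise commutatorElement
open Cfsg.Agent.ZStar.CyclicIntersections

universe u

variable {Q : Type u} [Group Q] [Finite Q] {L : Subgroup Q} [L.Normal]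
variable {S : Sylow 2 Q} {R : Subgroup Q} {x : Q} {n i : ℕ}

/-- The base point `b`. -/
structure Base (L : Subgroup Q) [L.Normal] (S : Sylow 2 Q) (R : Subgroup Q) (x : Q)
    (b : Sylow 2 ↥L) : Prop where
  ne : b ≠ sylowIn S L
  fix_R : ∀ r ∈ R, act L r b = b
  fix_x : act L x b = b

/-- The outer involution fixes the base point. -/
theorem Outer.base (hO : Outer L S R x) (d : TIData (sylowIn S L) n i) :
    ∃ b, Base L S R x b := by
  obtain ⟨b, hb, hbR, huniq⟩ := hO.exists_base d
  refine ⟨b, hb, hbR, huniq _ (fun e => hb (act_inj L (g := x) ?_)) fun r hr => ?_⟩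
  · exact e.trans (act_sylowIn S fun s hs =>
      mul_mem (mul_mem hO.x_mem hs) (inv_mem hO.x_mem)).symm
  · rw [act_act, ← (hO.x_R r hr).eq, ← act_act, hbR r hr]

theorem Outer.fix_trace (hO : Outer L S R x) : act L x (sylowIn S L) = sylowIn S L :=
  act_sylowIn S fun _ hs => mul_mem (mul_mem hO.x_mem hs) (inv_mem hO.x_mem)

variable {b : Sylow 2 ↥L}

/-- The stabiliser of the two base points in `L` is the complement. -/
theorem Outer.stab (hO : Outer L S R x) (d : TIData (sylowIn S L) n i) (hb : Base L S R x b)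
    {l : ↥L} (h1 : l • sylowIn S L = sylowIn S L) (h2 : l • b = b) : (l : Q) ∈ R := by
  obtain ⟨s, hs, r, hr, e⟩ := hO.split (Sylow.smul_eq_iff_mem_normalizer.mp h1)
  have hsb : s • b = b := by
    rw [← act_coe] at h2 ⊢
    rw [e, ← act_act, hb.fix_R r hr] at h2
    exact h2
  obtain ⟨s₀, -, huniq⟩ := d.regular b b hb.ne hb.ne
  have h : (⟨s, hs⟩ : ↥(sylowIn S L : Subgroup ↥L)) = 1 :=
    (huniq _ hsb).trans (huniq 1 (one_smul _ _)).symm
  have hs1 : s = 1 := congrArg Subtype.val h
  rw [e, hs1, OneMemClass.coe_one, one_mul]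
  exact hr

/-- Two points are carried to the base points. -/
theorem Outer.exists_pair (d : TIData (sylowIn S L) n i) (hb : Base L S R x b) {c c' : Sylow 2 ↥L}
    (h : c ≠ c') : ∃ h : ↥L, h • sylowIn S L = c ∧ h • b = c' := by
  haveI := Fact.mk Nat.prime_two
  obtain ⟨g, hg⟩ := MulAction.exists_smul_eq ↥L (sylowIn S L) c
  obtain ⟨s, hs, -⟩ := d.regular b (g⁻¹ • c') hb.ne (fun e => h (by
    rw [← hg, ← e, smul_inv_smul]))
  refine ⟨g * (s : ↥L), ?_, by rw [mul_smul, hs, smul_inv_smul]⟩
  rw [mul_smul, fixed_of_mem s.2, hg]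

/-- An involution of the coset `L x` fixing two points is the conjugate of `x` for them. -/
theorem Outer.eq_conj (hO : Outer L S R x) (d : TIData (sylowIn S L) n i) (hb : Base L S R x b)
    {u : Q} (hu : u * u = 1) (huL : u * x ∈ L) {h : ↥L}
    (h1 : act L u (h • sylowIn S L) = h • sylowIn S L) (h2 : act L u (h • b) = h • b) :
    u = (h : Q) * x * (h : Q)⁻¹ := by
  have hxx : x * x = 1 := mul_self_of_orderOf hO.x_order
  set w := (h : Q)⁻¹ * u * h with hw
  have hww : w * w = 1 := by
    rw [hw, show (h : Q)⁻¹ * u * h * ((h : Q)⁻¹ * u * h) = (h : Q)⁻¹ * (u * u) * h by group, hu,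
      mul_one, inv_mul_cancel]
  have hwL : w * x ∈ L := by
    have e : w * x = ((h : Q)⁻¹ * u * h * u⁻¹) * (u * x) := by rw [hw]; group
    rw [e]
    refine mul_mem ?_ huL
    rw [show (h : Q)⁻¹ * u * h * u⁻¹ = (h : Q)⁻¹ * (u * h * u⁻¹) by group]
    exact mul_mem (inv_mem h.2) (‹L.Normal›.conj_mem _ h.2 u)
  have hfix : ∀ T : Sylow 2 ↥L, act L u (h • T) = h • T → act L x T = T →
      (⟨w * x, hwL⟩ : ↥L) • T = T := by
    intro T hT hxT
    rw [← act_coe]
    show act L (w * x) T = T
    rw [← act_coe] at hT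
    rw [← act_act, hxT, hw, ← act_act, ← act_act, hT, act_act, inv_mul_cancel, act_one]
  have hl := hO.stab d hb (hfix _ h1 hO.fix_trace) (hfix _ h2 hb.fix_x)
  set l := w * x with hldef
  have hwl : w = l * x := by rw [hldef, mul_assoc, hxx, mul_one]
  have hll : l * l = 1 := by
    have hcl : Commute l x := (hO.x_R l hl).symm
    rw [hwl, hcl.symm.mul_mul_mul_comm, hxx, mul_one] at hww
    exact hww
  have hl1 : l = 1 := by
    have hodd : Odd (orderOf (⟨l, hl⟩ : ↥R)) := hO.R_odd.of_dvd_nat (orderOf_dvd_natCard _)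
    rw [Subgroup.orderOf_mk] at hodd
    have hdvd : orderOf l ∣ 2 := orderOf_dvd_of_pow_eq_one (by rw [pow_two]; exact hll)
    rcases (Nat.dvd_prime Nat.prime_two).1 hdvd with e | e
    · exact orderOf_eq_one_iff.1 e
    · rw [e] at hodd; exact absurd hodd (by decide)
  rw [hl1, one_mul] at hwl
  rw [← hwl, hw]
  group

/-- A pair of points exchanged by `x` gives an involution of `L` centralising `x`. -/
theorem Outer.exists_swap (hO : Outer L S R x) (d : TIData (sylowIn S L) n i) (hb : Base L S R x b)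
    {c : Sylow 2 ↥L} (hc : act L x c ≠ c) : ∃ v : ↥L, orderOf v = 2 ∧ Commute x (v : Q) ∧
      (∃ h : ↥L, (h : Q) * x * (h : Q)⁻¹ = x * v) ∧ act L (x * v) c = c ∧
      ∀ v' : ↥L, orderOf v' = 2 → Commute x (v' : Q) → act L (x * v') c = c → v' = v := by
  haveI := Fact.mk Nat.prime_two
  have hxx : x * x = 1 := mul_self_of_orderOf hO.x_order
  obtain ⟨h, hha, hhb⟩ := Outer.exists_pair d hb hc.symm
  set u := (h : Q) * x * (h : Q)⁻¹ with hu
  have huu : u * u = 1 := by
    rw [hu, show (h : Q) * x * (h : Q)⁻¹ * ((h : Q) * x * (h : Q)⁻¹) = (h : Q) * (x * x) * (h : Q)⁻¹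
      by group, hxx, mul_one, mul_inv_cancel]
  have hux : u * x ∈ L := by
    rw [hu, show (h : Q) * x * (h : Q)⁻¹ * x = (h : Q) * (x * (h : Q)⁻¹ * x) by group]
    refine mul_mem h.2 ?_
    have := ‹L.Normal›.conj_mem _ (inv_mem h.2) x
    rwa [inv_eq_of_mul_eq_one_right hxx] at this
  have hfix : ∀ T : Sylow 2 ↥L, act L x T = T → act L u (h • T) = h • T := fun T hT => by
    rw [← act_coe, hu, act_act, inv_mul_cancel_right, ← act_act, hT]
  have huc : act L u c = c := by rw [← hha]; exact hfix _ hO.fix_trace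
  have huc' : act L u (act L x c) = act L x c := by rw [← hhb]; exact hfix _ hb.fix_x
  have hkey : ∀ w : Q, w * w = 1 → w * x ∈ L → act L w c = c → act L w (act L x c) = act L x c →
      w = u := fun w h0 h1 h2 h3 =>
    hO.eq_conj d hb h0 h1 (by rw [hha]; exact h2) (by rw [hhb]; exact h3)
  have hxux : x * u * x = u := by
    refine hkey _ ?_ ?_ ?_ ?_
    · rw [show x * u * x * (x * u * x) = x * u * (x * x) * u * x by group, hxx, mul_one,
        mul_assoc x u u, huu, mul_one, hxx]
    · have := ‹L.Normal›.conj_mem _ hux x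
      rwa [inv_eq_of_mul_eq_one_right hxx, ← mul_assoc] at this
    · rw [← act_act, ← act_act, huc', act_act, hxx, act_one]
    · rw [← act_act, ← act_act, act_act L x x c, hxx, act_one, huc]
  have hcomm : Commute x u := by
    show x * u = u * x
    calc x * u = x * u * x * x := by rw [mul_assoc (x * u), hxx, mul_one]
      _ = u * x := by rw [hxux]
  have hvL : x * u ∈ L := by rw [hcomm.eq]; exact hux
  refine ⟨⟨x * u, hvL⟩, ?_, (Commute.refl x).mul_right hcomm, ⟨h, ?_⟩, ?_, ?_⟩
  · rw [← Subgroup.orderOf_coe]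
    refine orderOf_eq_prime ?_ fun e => hc ?_
    · rw [pow_two, hcomm.symm.mul_mul_mul_comm, hxx, huu, one_mul]
    · have e' : act L (x * u) c = c := by
        rw [show x * u = 1 from e, act_one]
      rwa [← act_act, huc] at e'
  · show u = x * (x * u)
    rw [← mul_assoc, hxx, one_mul]
  · show act L (x * (x * u)) c = c
    rw [← mul_assoc, hxx, one_mul, huc]
  · intro v' ho hcv hfv
    refine Subtype.ext ?_
    show (v' : Q) = x * u
    have hxv : x * (v' : Q) = u := by
      refine hkey _ ?_ ?_ hfv ?_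
      · rw [hcv.symm.mul_mul_mul_comm, hxx, one_mul, ← Subgroup.coe_mul,
          mul_self_of_orderOf ho, OneMemClass.coe_one]
      · rw [hcv.eq, mul_assoc, hxx, mul_one]; exact v'.2
      · rw [act_act, show x * (v' : Q) * x = x * (x * (v' : Q)) by rw [mul_assoc, hcv.eq],
          ← act_act, hfv]
    rw [← hxv, ← mul_assoc, hxx, one_mul]

end Cfsg.Agent.CyclicSylowInter
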