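import Cfsg.Agent.Lib.CyclicSylowInter.Outer.Pairs

/-!
# The fixed points of the outer involution, and the unitary case

The points fixed by the outer involution are the trace and the orbit of the base point under the
centraliser in the trace.  An element centralising all involutions of the trace rules out that this
centraliser consists of involutions only.
-/

set_option autoImplicit false
set_option linter.style.haveILetI false
set_option linter.unusedSectionVars false

namespace Cfsg.Agent.CyclicSylowInter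

open Subgroup
open scoped Pointwise commutatorElement
open Cfsg.Agent.ZStar.CyclicIntersections

universe u

variable {Q : Type u} [Group Q] [Finite Q] {L : Subgroup Q} [L.Normal]
variable {S : Sylow 2 Q} {R : Subgroup Q} {x : Q} {n i : ℕ} {b : Sylow 2 ↥L}

/-- The centraliser of the outer involution in the trace. -/
noncomputable def centTrace (S : Sylow 2 Q) (L : Subgroup Q) [L.Normal] (x : Q) : Subgroup ↥L :=
  (sylowIn S L : Subgroup ↥L) ⊓ (cen x).subgroupOf L

theorem mem_centTrace {l : ↥L} :
    l ∈ centTrace S L x ↔ l ∈ (sylowIn S L : Subgroup ↥L) ∧ Commute x (l : Q) := by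
  rw [centTrace, Subgroup.mem_inf, mem_subgroupOf, mem_cent]
  exact and_congr_right fun _ => ⟨fun h => h.symm, fun h => h.symm⟩

/-- The fixed points of the outer involution. -/
theorem Outer.fix_iff (hO : Outer L S R x) (d : TIData (sylowIn S L) n i) (hb : Base L S R x b)
    {c : Sylow 2 ↥L} :
    act L x c = c ↔ c = sylowIn S L ∨ ∃ s ∈ centTrace S L x, s • b = c := by
  have hxi : x⁻¹ = x := inv_eq_of_mul_eq_one_right (mul_self_of_orderOf hO.x_order)
  constructor
  · intro hc
    by_cases hca : c = sylowIn S L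
    · exact Or.inl hca
    obtain ⟨s, hsb, huniq⟩ := d.regular b c hb.ne hca
    refine Or.inr ⟨s, mem_centTrace.2 ⟨s.2, ?_⟩, hsb⟩
    have hs' : MulAut.conjNormal x (s : ↥L) ∈ (sylowIn S L : Subgroup ↥L) := by
      have h := conj_mem_act L x s.2
      rwa [hO.fix_trace] at h
    have hsb' : MulAut.conjNormal x (s : ↥L) • b = c := by
      rw [← act_coe, MulAut.conjNormal_apply, ← act_act, ← act_act, hxi, hb.fix_x, act_coe L,
        show (s : ↥L) • b = c from hsb, hc]
    have e := congrArg Subtype.val (congrArg Subtype.val (huniq ⟨_, hs'⟩ hsb'))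
    rw [MulAut.conjNormal_apply] at e
    exact eq_mul_of_mul_inv_eq e
  · rintro (rfl | ⟨s, hs, rfl⟩)
    · exact hO.fix_trace
    · rw [← act_coe, act_act, (mem_centTrace.1 hs).2.eq, ← act_act, hb.fix_x]

/-- The unitary element forbids a centraliser consisting of involutions only. -/
theorem Outer.not_all_inv (hO : Outer L S R x) (d : TIData (sylowIn S L) n i) (hb : Base L S R x b)
    (hi : i = 3) : ∃ s ∈ centTrace S L x, s ≠ 1 ∧ orderOf s ≠ 2 := by
  haveI := Fact.mk Nat.prime_two
  haveI := hO.simple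
  by_contra h
  push Not at h
  obtain ⟨k, hk, hk1, hko, hkc⟩ := d.unitary_elt hi
  obtain ⟨s, hs, r, hr, e⟩ := hO.split hk
  let r' : ↥L := ⟨r, hO.R_le hr⟩
  have ekr : k = s * r' := Subtype.ext e
  have hr1 : r' ≠ 1 := by
    intro h1
    rw [h1, mul_one] at ekr
    subst ekr
    obtain ⟨j, hj⟩ := (sylowIn S L).isPGroup' ⟨k, hs⟩
    have h2 : orderOf k ∣ 2 ^ j := orderOf_dvd_of_pow_eq_one (congrArg Subtype.val hj)
    obtain ⟨l, -, hl⟩ := (Nat.dvd_prime_pow Nat.prime_two).1 h2
    rw [hl] at hko
    rcases l with _ | l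
    · exact hk1 (orderOf_eq_one_iff.1 (by rw [hl, pow_zero]))
    · exact absurd hko (by rw [Nat.odd_iff, pow_succ]; omega)
  have hrc : ∀ w ∈ centTrace S L x, Commute r (w : Q) := by
    intro w hw
    by_cases hw1 : w = 1
    · rw [hw1, OneMemClass.coe_one]; exact Commute.one_right r
    have hwo := h w hw hw1
    have hcs : Commute s w := (d.inv_central w (mem_centTrace.1 hw).1 hwo s hs).symm
    have hck : Commute k w := hkc w (mem_centTrace.1 hw).1 hwo
    have hr' : r' = s⁻¹ * k := by rw [ekr, inv_mul_cancel_left]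
    have h3 : Commute r' w := by rw [hr']; exact hcs.inv_left.mul_left hck
    exact congrArg Subtype.val h3.eq
  set U : Subgroup Q := (sylowIn S L : Subgroup ↥L).map L.subtype with hU
  have hle : zpowers r ≤ centralizer (U : Set Q) := by
    refine Coprime.le_centralizer_of_pxq (p := 2) (P := zpowers x) ?_ ?_
      ((sylowIn S L).isPGroup'.map _) ?_ ?_ ?_ ?_
    · exact IsPGroup.of_card (n := 1) (by rw [Nat.card_zpowers, hO.x_order, pow_one])
    · refine Nat.coprime_two_right.mpr (hO.R_odd.of_dvd_nat ?_)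
      exact Subgroup.card_dvd_of_le (zpowers_le.2 hr)
    · refine zpowers_le.2 (mem_centralizer_iff.2 fun y hy => ?_)
      obtain ⟨j, rfl⟩ := mem_zpowers_iff.1 hy
      exact ((hO.x_R r hr).zpow_right j).eq.symm
    · refine zpowers_le.2 (mem_normalizer_fintype (fun y hy => ?_))
      obtain ⟨l, hl, rfl⟩ := hy
      refine ⟨MulAut.conjNormal x l, ?_, MulAut.conjNormal_apply x l⟩
      have h' := conj_mem_act L x hl
      rwa [hO.fix_trace] at h'
    · refine zpowers_le.2 (mem_normalizer_fintype (fun y hy => ?_))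
      obtain ⟨l, hl, rfl⟩ := hy
      refine ⟨MulAut.conjNormal r l, ?_, MulAut.conjNormal_apply r l⟩
      have h' := conj_mem_act L r hl
      rwa [act_sylowIn S (hO.R_norm r hr)] at h'
    · rintro y ⟨⟨l, hl, rfl⟩, hy⟩
      have hcx : Commute x (l : Q) := mem_centralizer_iff.1 hy x (mem_zpowers x)
      refine mem_centralizer_iff.2 fun y' hy' => ?_
      obtain ⟨j, rfl⟩ := mem_zpowers_iff.1 hy'
      exact ((hrc l (mem_centTrace.2 ⟨hl, hcx⟩)).zpow_left j).eq
  have hrU : ∀ l ∈ (sylowIn S L : Subgroup ↥L), Commute r' l := fun l hl =>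
    Subtype.ext (mem_centralizer_iff.1 (hle (mem_zpowers r)) (l : Q) ⟨l, hl, rfl⟩).symm
  have hfix : ∀ T : Sylow 2 ↥L, r' • T = T := by
    intro T
    by_cases hT : T = sylowIn S L
    · rw [hT, ← act_coe]; exact act_sylowIn S (hO.R_norm r hr)
    obtain ⟨l, hl, -⟩ := d.regular b T hb.ne hT
    rw [← hl, smul_smul, (hrU l l.2).eq, mul_smul]
    congr 1
    rw [← act_coe]; exact hb.fix_R r hr
  let K : Subgroup ↥L :=
    { carrier := {g | ∀ T : Sylow 2 ↥L, g • T = T}
      one_mem' := fun T => one_smul _ T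
      mul_mem' := fun {g g'} hg hg' T => by rw [mul_smul, hg' T, hg T]
      inv_mem' := fun {g} hg T => by rw [inv_smul_eq_iff, hg T] }
  haveI : K.Normal := ⟨fun g hg c T => by
    rw [mul_smul, mul_smul, hg (c⁻¹ • T), smul_inv_smul]⟩
  rcases (inferInstance : K.Normal).eq_bot_or_eq_top with eK | eK
  · have hmem : r' ∈ K := hfix
    rw [eK, mem_bot] at hmem
    exact hr1 hmem
  · obtain ⟨g, hg⟩ := MulAction.exists_smul_eq ↥L (sylowIn S L) b
    have hgK : g ∈ K := eK ▸ mem_top g
    exact hb.ne (by rw [← hg, hgK])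

end Cfsg.Agent.CyclicSylowInter
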